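/-
Counting solutions of `g ^ n = 1` in metabelian groups `(∏ modules) ⋊ H` with fixed-point-free
module actions, and in finite products.
-/
import Mathlib

set_option autoImplicit false
set_option linter.all false

namespace Cfsg.Agent.OrderType

/-- Number of solutions of `g ^ n = 1`. -/
noncomputable def NT (G : Type*) [Monoid G] (n : ℕ) : ℕ := Nat.card {g : G // g ^ n = 1}

lemma NT_congr {G K : Type*} [Monoid G] [Monoid K] (e : G ≃* K) (n : ℕ) : NT G n = NT K n :=
  Nat.card_congr (e.toEquiv.subtypeEquiv fun g => by simp [← map_pow])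

lemma NT_prod {G K : Type*} [Monoid G] [Monoid K] (n : ℕ) : NT (G × K) n = NT G n * NT K n := by
  unfold NT
  rw [← Nat.card_prod]
  refine Nat.card_congr ((Equiv.subtypeEquivRight fun x => ?_).trans Equiv.subtypeProdEquivProd)
  simp [Prod.ext_iff]

lemma NT_pi {ι : Type*} [Fintype ι] {G : ι → Type*} [∀ i, Monoid (G i)] (n : ℕ) :
    NT (∀ i, G i) n = ∏ i, NT (G i) n := by
  unfold NT
  rw [← Nat.card_pi]
  refine Nat.card_congr ((Equiv.subtypeEquivRight fun x => ?_).trans Equiv.subtypePiEquivPi)
  exact funext_iff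

lemma semidirect_pow {N H : Type*} [CommGroup N] [Group H] (φ : H →* MulAut N)
    (x : N ⋊[φ] H) (n : ℕ) :
    x ^ n = ⟨∏ j ∈ Finset.range n, ((φ x.right) ^ j) x.left, x.right ^ n⟩ := by
  induction n with
  | zero => simp
  | succ n ih =>
    rw [pow_succ, ih]
    refine SemidirectProduct.ext ?_ ?_
    · simp only [SemidirectProduct.mul_left, Finset.prod_range_succ, map_pow]
    · simp only [SemidirectProduct.mul_right, pow_succ]

lemma prod_orbit_fixed {A : Type*} [CommGroup A] (u : MulAut A) (n : ℕ) (hu : u ^ n = 1) (a : A) :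
    u (∏ j ∈ Finset.range n, (u ^ j) a) = ∏ j ∈ Finset.range n, (u ^ j) a := by
  rw [map_prod]
  have h1 := Finset.prod_range_succ' (fun j => (u ^ j) a) n
  have h2 := Finset.prod_range_succ (fun j => (u ^ j) a) n
  simp only [hu, pow_zero, MulAut.one_apply] at h1 h2
  have h3 : (∏ k ∈ Finset.range n, (u ^ (k + 1)) a) = ∏ j ∈ Finset.range n, (u ^ j) a :=
    mul_right_cancel (h1.symm.trans h2)
  rw [← h3]
  exact Finset.prod_congr rfl fun j _ => by rw [pow_succ', MulAut.mul_apply]

/-- An abelian group with an automorphism whose nontrivial powers have vanishing norm. -/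
structure Mod where
  A : Type
  [grp : CommGroup A]
  [fin : Finite A]
  d : ℕ
  [dpos : NeZero d]
  q : ℕ
  e : ℕ
  card : Nat.card A = q ^ e
  ψ : MulAut A
  hψ : ψ ^ d = 1
  tor : ∀ n, Nat.card {a : A // a ^ n = 1} = (Nat.gcd n q) ^ e
  free : ∀ k n : ℕ, ¬ d ∣ k → d ∣ k * n → ∀ a : A, ∏ j ∈ Finset.range n, ((ψ ^ k) ^ j) a = 1

attribute [instance] Mod.grp Mod.fin Mod.dpos

/-- A factor `(∏ modules) ⋊ H`. -/
structure Fac where
  H : Type
  [grp : AddCommGroup H]
  [fin : Fintype H]
  [dec : DecidableEq H]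
  r : ℕ
  M : Fin r → Mod
  χ : ∀ i, H →+ ZMod (M i).d

attribute [instance] Fac.grp Fac.fin Fac.dec

namespace Fac

variable (F : Fac)

noncomputable def act : Multiplicative F.H →* MulAut (∀ i, (F.M i).A) where
  toFun h := MulEquiv.piCongrRight fun i => (F.M i).ψ ^ (F.χ i h.toAdd).val
  map_one' := by
    ext x i
    simp
  map_mul' a b := by
    ext x i
    simp only [MulEquiv.piCongrRight_apply, MulAut.mul_apply, Pi.map_apply]
    rw [← MulAut.mul_apply, ← pow_add, toAdd_mul, map_add, ZMod.val_add,
      ← pow_eq_pow_mod _ (F.M i).hψ]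

lemma act_pow_apply (h : Multiplicative F.H) (j : ℕ) (v : ∀ i, (F.M i).A) (i : Fin F.r) :
    ((F.act h) ^ j) v i = (((F.M i).ψ ^ (F.χ i h.toAdd).val) ^ j) (v i) := by
  induction j generalizing v with
  | zero => simp
  | succ j ih =>
    rw [pow_succ, MulAut.mul_apply, ih, pow_succ, MulAut.mul_apply]
    rfl

abbrev G : Type := (∀ i, (F.M i).A) ⋊[F.act] Multiplicative F.H

instance : Finite F.G := Finite.of_equiv _ SemidirectProduct.equivProd.symm

/-- The closed formula for the number of solutions of `g ^ n = 1`. -/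
def cnt (n : ℕ) : ℕ :=
  ∑ h ∈ Finset.univ.filter (fun h : F.H => n • h = 0),
    ∏ i, if F.χ i h = 0 then (Nat.gcd n (F.M i).q) ^ (F.M i).e else (F.M i).q ^ (F.M i).e

lemma NT_eq (n : ℕ) : NT F.G n = F.cnt n := by
  classical
  have key : ∀ h : F.H, n • h = 0 → ∀ i, Nat.card {a : (F.M i).A //
      ∏ j ∈ Finset.range n, (((F.M i).ψ ^ (F.χ i h).val) ^ j) a = 1} =
      if F.χ i h = 0 then (Nat.gcd n (F.M i).q) ^ (F.M i).e else (F.M i).q ^ (F.M i).e := by
    intro h hh i
    split_ifs with h0
    · rw [← (F.M i).tor n]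
      refine Nat.card_congr (Equiv.subtypeEquivRight fun a => ?_)
      rw [h0]
      simp
    · rw [← (F.M i).card]
      refine Nat.card_congr (Equiv.subtypeUnivEquiv fun a => ?_)
      refine (F.M i).free _ n ?_ ?_ a
      · intro hd
        exact h0 (by rw [← ZMod.natCast_rightInverse (F.χ i h)];
                     exact (ZMod.natCast_eq_zero_iff _ _).2 hd)
      · have h2 : n • F.χ i h = 0 := by rw [← map_nsmul, hh, map_zero]
        rw [← ZMod.natCast_eq_zero_iff, Nat.cast_mul, ZMod.natCast_zmod_val, mul_comm,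
          ← nsmul_eq_mul, h2]
  have e : {g : F.G // g ^ n = 1} ≃
      (Σ h : {h : F.H // n • h = 0}, ∀ i, {a : (F.M i).A //
        ∏ j ∈ Finset.range n, (((F.M i).ψ ^ (F.χ i h.1).val) ^ j) a = 1}) :=
    { toFun := fun g =>
        ⟨⟨g.1.right.toAdd, by
            have := g.2
            rw [semidirect_pow] at this
            have h2 := congrArg SemidirectProduct.right this
            simp only [SemidirectProduct.one_right] at h2
            rw [← toAdd_pow, h2, toAdd_one]⟩,
          fun i => ⟨g.1.left i, by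
            have := g.2
            rw [semidirect_pow] at this
            have h2 := congrFun (congrArg SemidirectProduct.left this) i
            simpa [Finset.prod_apply, F.act_pow_apply] using h2⟩⟩
      invFun := fun x => ⟨⟨fun i => (x.2 i).1, Multiplicative.ofAdd x.1.1⟩, by
          rw [semidirect_pow]
          ext i
          · simp only [Finset.prod_apply, F.act_pow_apply, SemidirectProduct.one_left,
              Pi.one_apply]
            exact (x.2 i).2
          · simp only [SemidirectProduct.one_right, ← ofAdd_nsmul, x.1.2, ofAdd_zero]⟩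
      left_inv := fun g => rfl
      right_inv := fun x => rfl }
  rw [NT, Nat.card_congr e, Nat.card_sigma, cnt, Finset.sum_subtype (p := fun h : F.H => n • h = 0)
    (Finset.univ.filter (fun h : F.H => n • h = 0)) (by simp)]
  refine Finset.sum_congr rfl fun h _ => ?_
  rw [Nat.card_pi]
  exact Finset.prod_congr rfl fun i _ => key h.1 h.2 i

lemma derived_two : derivedSeries F.G 2 = ⊥ := by
  set f : F.G →* Multiplicative F.H := SemidirectProduct.rightHom
  have h1 : derivedSeries F.G 1 ≤ f.ker := by
    rw [derivedSeries_one]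
    exact Abelianization.commutator_subset_ker f
  rw [derivedSeries_succ, eq_bot_iff, Subgroup.commutator_le]
  intro a ha b hb
  have ha1 : a.right = 1 := h1 ha
  have hb1 : b.right = 1 := h1 hb
  rw [Subgroup.mem_bot, commutatorElement_eq_one_iff_mul_comm]
  ext i <;> simp [ha1, hb1, mul_comm]

end Fac

lemma isSolvable_of_derived_two {ι : Type*} {G : ι → Type*} [∀ i, Group (G i)]
    (h : ∀ i, derivedSeries (G i) 2 = ⊥) : derivedSeries (∀ i, G i) 2 = ⊥ := by
  rw [eq_bot_iff]
  intro x hx
  rw [Subgroup.mem_bot]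
  funext i
  have := map_derivedSeries_le_derivedSeries (Pi.evalMonoidHom G i) 2 ⟨x, hx, rfl⟩
  rwa [h i, Subgroup.mem_bot] at this

/-- A finite product with multiplicities. -/
abbrev Big {s : ℕ} (F : Fin s → Fac) (c : Fin s → ℕ) : Type := ∀ i, Fin (c i) → (F i).G

lemma NT_big {s : ℕ} (F : Fin s → Fac) (c : Fin s → ℕ) (n : ℕ) :
    NT (Big F c) n = ∏ i, ((F i).cnt n) ^ c i := by
  rw [NT_pi]
  refine Finset.prod_congr rfl fun i _ => ?_
  rw [NT_pi]
  simp [Fac.NT_eq]

lemma isSolvable_big {s : ℕ} (F : Fin s → Fac) (c : Fin s → ℕ) : Group.IsSolvable (Big F c) :=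
  ⟨⟨2, isSolvable_of_derived_two fun i => isSolvable_of_derived_two fun _ => (F i).derived_two⟩⟩

end Cfsg.Agent.OrderType
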