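/-
Constructor for factors over `ZMod a × ZMod b`, and reduction to divisors of an exponent.
-/
import Mathlib
import Cfsg.Agent.Lib.OrderType.Basic

set_option autoImplicit false
set_option linter.all false

namespace Cfsg.Agent.OrderType

lemma mul_mod_cast (d a c m : ℕ) (h : d ∣ a * c) :
    ((c * (m % a) : ℕ) : ZMod d) = ((c * m : ℕ) : ZMod d) := by
  have h0 : ((c * a : ℕ) : ZMod d) = 0 := by
    rw [ZMod.natCast_eq_zero_iff, mul_comm]
    exact h
  conv_rhs => rw [← Nat.mod_add_div m a, Nat.mul_add, ← Nat.mul_assoc, Nat.cast_add,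
    Nat.cast_mul (c * a), h0, zero_mul, add_zero]

def Fac.of (a b : ℕ) [NeZero a] [NeZero b] (r : ℕ) (ms : Fin r → Mod) (c : Fin r → ℕ × ℕ)
    (ok : ∀ i, (ms i).d ∣ a * (c i).1 ∧ (ms i).d ∣ b * (c i).2) : Fac where
  H := ZMod a × ZMod b
  r := r
  M := ms
  χ i :=
    { toFun := fun h => (((c i).1 * h.1.val + (c i).2 * h.2.val : ℕ) : ZMod (ms i).d)
      map_zero' := by simp
      map_add' := fun x y => by
        simp only [Prod.fst_add, Prod.snd_add, ZMod.val_add]
        rw [Nat.cast_add, mul_mod_cast _ _ _ _ (ok i).1, mul_mod_cast _ _ _ _ (ok i).2,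
          ← Nat.cast_add, ← Nat.cast_add]
        congr 1
        ring }

lemma pow_exp_eq_one {G : Type*} [Monoid G] [Finite G] {N : ℕ} (h : NT G N = Nat.card G) (g : G) :
    g ^ N = 1 := by
  by_contra hg
  haveI := Fintype.ofFinite G
  have := Finite.card_subtype_lt (p := fun x : G => x ^ N = 1) hg
  rw [NT] at h
  omega

lemma NT_gcd {G : Type*} [Monoid G] [Finite G] {N : ℕ} (h : NT G N = Nat.card G) (n : ℕ) :
    NT G n = NT G (Nat.gcd n N) := by
  unfold NT
  refine Nat.card_congr (Equiv.subtypeEquivRight fun g => ?_)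
  rw [pow_gcd_eq_one]
  exact ⟨fun h1 => ⟨h1, pow_exp_eq_one h g⟩, fun h1 => h1.1⟩

lemma NT_zero (G : Type*) [Monoid G] [Finite G] : NT G 0 = Nat.card G := by
  unfold NT
  exact Nat.card_congr (Equiv.subtypeUnivEquiv fun g => pow_zero g)

end Cfsg.Agent.OrderType
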