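/-
Element orders in `GL₃(2)` and its non-solvability.
-/
import Mathlib
import Cfsg.Agent.Lib.OrderType.Basic

set_option autoImplicit false
set_option linter.all false

open scoped commutatorElement

namespace Cfsg.Agent.OrderType.GL32

abbrev R2 : Type := ZMod 2 × ZMod 2 × ZMod 2
abbrev T : Type := R2 × R2 × R2
abbrev M3 : Type := Matrix (Fin 3) (Fin 3) (ZMod 2)
abbrev L : Type := M3ˣ

def mulRow (r : R2) (t : T) : R2 :=
  (r.1 * t.1.1 + r.2.1 * t.2.1.1 + r.2.2 * t.2.2.1,
   r.1 * t.1.2.1 + r.2.1 * t.2.1.2.1 + r.2.2 * t.2.2.2.1,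
   r.1 * t.1.2.2 + r.2.1 * t.2.1.2.2 + r.2.2 * t.2.2.2.2)

def mulT (s t : T) : T := (mulRow s.1 t, mulRow s.2.1 t, mulRow s.2.2 t)

def oneT : T := ((1, 0, 0), (0, 1, 0), (0, 0, 1))

def toMat (t : T) : M3 :=
  !![t.1.1, t.1.2.1, t.1.2.2; t.2.1.1, t.2.1.2.1, t.2.1.2.2; t.2.2.1, t.2.2.2.1, t.2.2.2.2]

def ofMat (M : M3) : T :=
  ((M 0 0, M 0 1, M 0 2), (M 1 0, M 1 1, M 1 2), (M 2 0, M 2 1, M 2 2))

def equiv : T ≃ M3 where
  toFun := toMat
  invFun := ofMat
  left_inv t := rfl
  right_inv M := by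
    ext i j
    fin_cases i <;> fin_cases j <;> rfl

lemma toMat_mul (s t : T) : toMat (mulT s t) = toMat s * toMat t := by
  ext i j
  fin_cases i <;> fin_cases j <;>
    simp [toMat, mulT, mulRow, Matrix.mul_apply, Fin.sum_univ_three]

lemma toMat_one : toMat oneT = 1 := by
  ext i j
  fin_cases i <;> fin_cases j <;> rfl

/-- The order of a matrix given as a tuple, `0` for singular ones. -/
def ord (t : T) : ℕ :=
  let t2 := mulT t t
  let t3 := mulT t2 t
  let t4 := mulT t2 t2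
  if t = oneT then 1 else if t2 = oneT then 2 else if t3 = oneT then 3
  else if t4 = oneT then 4 else if mulT t4 t3 = oneT then 7 else 0

def detT (t : T) : ZMod 2 :=
  t.1.1 * t.2.1.2.1 * t.2.2.2.2 - t.1.1 * t.2.1.2.2 * t.2.2.2.1
    - t.1.2.1 * t.2.1.1 * t.2.2.2.2 + t.1.2.1 * t.2.1.2.2 * t.2.2.1
    + t.1.2.2 * t.2.1.1 * t.2.2.2.1 - t.1.2.2 * t.2.1.2.1 * t.2.2.1

lemma det_toMat (t : T) : (toMat t).det = detT t := by
  simp [toMat, detT, Matrix.det_fin_three]

lemma ord_ne_zero : ∀ t : T, detT t ≠ 0 → ord t ≠ 0 := by decide +kernel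

lemma orderOf_eq (t : T) (h : ord t ≠ 0) : orderOf (toMat t) = ord t := by
  have hi : ∀ s : T, toMat s = 1 ↔ s = oneT := fun s =>
    ⟨fun h => equiv.injective (h.trans toMat_one.symm), fun h => h ▸ toMat_one⟩
  have e2 : toMat t ^ 2 = toMat (mulT t t) := by rw [toMat_mul, pow_two]
  have e3 : toMat t ^ 3 = toMat (mulT (mulT t t) t) := by rw [toMat_mul, pow_succ, e2]
  have e4 : toMat t ^ 4 = toMat (mulT (mulT t t) (mulT t t)) := by
    rw [toMat_mul, ← e2, ← pow_add]
  have e7 : toMat t ^ 7 = toMat (mulT (mulT (mulT t t) (mulT t t)) (mulT (mulT t t) t)) := by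
    rw [toMat_mul, ← e4, ← e3, ← pow_add]
  haveI : Fact (Nat.Prime 2) := ⟨Nat.prime_two⟩
  haveI : Fact (Nat.Prime 3) := ⟨Nat.prime_three⟩
  haveI : Fact (Nat.Prime 7) := ⟨by norm_num⟩
  unfold ord at h ⊢
  simp only at h ⊢
  by_cases h1 : t = oneT
  · rw [if_pos h1, h1, toMat_one, orderOf_one]
  rw [if_neg h1] at h ⊢
  have n1 : toMat t ≠ 1 := fun hh => h1 ((hi t).1 hh)
  by_cases h2 : mulT t t = oneT
  · rw [if_pos h2]
    exact orderOf_eq_prime (by rw [e2, (hi _).2 h2]) n1
  rw [if_neg h2] at h ⊢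
  by_cases h3 : mulT (mulT t t) t = oneT
  · rw [if_pos h3]
    exact orderOf_eq_prime (by rw [e3, (hi _).2 h3]) n1
  rw [if_neg h3] at h ⊢
  by_cases h4 : mulT (mulT t t) (mulT t t) = oneT
  · rw [if_pos h4]
    refine orderOf_eq_prime_pow (p := 2) (n := 1) ?_ (by rw [show (2:ℕ) ^ (1+1) = 4 from rfl, e4, (hi _).2 h4])
    rw [pow_one, e2]
    exact fun hh => h2 ((hi _).1 hh)
  rw [if_neg h4] at h ⊢
  split_ifs at h ⊢ with h7
  · exact orderOf_eq_prime (by rw [e7, (hi _).2 h7]) n1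
  · exact absurd rfl h

lemma pow_eq_one_iff (t : T) {n : ℕ} (hn : n ≠ 0) :
    toMat t ^ n = 1 ↔ ord t ≠ 0 ∧ ord t ∣ n := by
  constructor
  · intro h
    have hd : detT t ≠ 0 := by
      intro h0
      have := congrArg Matrix.det h
      rw [Matrix.det_pow, det_toMat, h0, zero_pow hn, Matrix.det_one] at this
      exact zero_ne_one this
    refine ⟨ord_ne_zero t hd, ?_⟩
    rw [← orderOf_eq t (ord_ne_zero t hd)]
    exact orderOf_dvd_of_pow_eq_one h
  · rintro ⟨h1, h2⟩
    rw [← orderOf_eq t h1] at h2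
    exact orderOf_dvd_iff_pow_eq_one.1 h2

def cntL (n : ℕ) : ℕ := (Finset.univ.filter (fun t : T => ord t ≠ 0 ∧ ord t ∣ n)).card

lemma NT_eq {n : ℕ} (hn : n ≠ 0) : NT L n = cntL n := by
  rw [NT, cntL, ← Fintype.card_subtype, ← Nat.card_eq_fintype_card]
  refine Nat.card_congr
    { toFun := fun g => ⟨ofMat g.1.1, (pow_eq_one_iff _ hn).1 ?_⟩
      invFun := fun t => ⟨Units.ofPowEqOne (toMat t.1) n ((pow_eq_one_iff _ hn).2 t.2) hn,
        Units.ext (by simpa using (pow_eq_one_iff _ hn).2 t.2)⟩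
      left_inv := fun g => Subtype.ext (Units.ext (equiv.apply_symm_apply g.1.1))
      right_inv := fun t => Subtype.ext (equiv.symm_apply_apply t.1) }
  show equiv (equiv.symm g.1.1) ^ n = 1
  rw [Equiv.apply_symm_apply, ← Units.val_pow_eq_pow_val, g.2, Units.val_one]

lemma pow_84 (g : L) : g ^ 84 = 1 := by
  have hd : detT (ofMat g.1) ≠ 0 := by
    rw [← det_toMat, show toMat (ofMat g.1) = g.1 from equiv.apply_symm_apply g.1]
    exact ((Matrix.isUnit_iff_isUnit_det g.1).1 g.isUnit).ne_zero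
  have h : ∀ t : T, ord t ∣ 84 ∨ ord t = 0 := by decide +kernel
  have h1 := (h (ofMat g.1)).resolve_right (ord_ne_zero _ hd)
  have h2 := (pow_eq_one_iff _ (by norm_num : (84:ℕ) ≠ 0)).2 ⟨ord_ne_zero _ hd, h1⟩
  rw [show toMat (ofMat g.1) = g.1 from equiv.apply_symm_apply g.1] at h2
  exact Units.ext (by rw [Units.val_pow_eq_pow_val, h2, Units.val_one])

/-- Transvection `1 + E_{ij}`. -/
def E (i j : Fin 3) (h : i ≠ j) : L where
  val := Matrix.transvection i j 1
  inv := Matrix.transvection i j 1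
  val_inv := by rw [Matrix.transvection_mul_transvection_same _ _ h, show (1:ZMod 2) + 1 = 0 from rfl, Matrix.transvection_zero]
  inv_val := by rw [Matrix.transvection_mul_transvection_same _ _ h, show (1:ZMod 2) + 1 = 0 from rfl, Matrix.transvection_zero]

lemma E_comm : ∀ i j k : Fin 3, ∀ (hij : i ≠ j) (hjk : j ≠ k) (hik : i ≠ k),
    ⁅E i j hij, E j k hjk⁆ = E i k hik := by
  intro i j k hij hjk hik
  apply Units.ext
  simp only [commutatorElement_def, Units.val_mul]
  revert hij hjk hik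
  fin_cases i <;> fin_cases j <;> fin_cases k <;>
    first
      | (intro hij hjk hik; exact absurd rfl hij)
      | (intro hij hjk hik; exact absurd rfl hjk)
      | (intro hij hjk hik; exact absurd rfl hik)
      | (intro hij hjk hik; ext a b; fin_cases a <;> fin_cases b <;>
          simp [E, Matrix.mul_apply, Fin.sum_univ_three, Matrix.transvection, Matrix.one_apply,
            Matrix.single] <;> decide)

lemma not_isSolvable : ¬ Group.IsSolvable L := by
  intro hs
  obtain ⟨m, hm⟩ := hs.solvable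
  have key : ∀ m, ∀ (i j : Fin 3) (h : i ≠ j), E i j h ∈ derivedSeries L m := by
    intro m
    induction m with
    | zero => intros; exact Subgroup.mem_top _
    | succ m ih =>
      intro i j h
      obtain ⟨k, hk1, hk2⟩ : ∃ k : Fin 3, k ≠ i ∧ k ≠ j := by
        revert h; revert i j; decide
      rw [derivedSeries_succ, ← E_comm i k j hk1.symm hk2 h]
      exact Subgroup.commutator_mem_commutator (ih _ _ _) (ih _ _ _)
  have := key m 0 1 (by decide)
  rw [hm, Subgroup.mem_bot] at this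
  have h0 : (E 0 1 (by decide)).val = (1 : M3) := (congrArg (fun g : L => g.val) this).trans Units.val_one
  have h01 := congrFun (congrFun h0 0) 1
  simp [E, Matrix.transvection] at h01

end Cfsg.Agent.OrderType.GL32
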