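/-
The small modules used as building blocks.
-/
import Mathlib
import Cfsg.Agent.Lib.OrderType.Basic

set_option autoImplicit false
set_option linter.all false

namespace Cfsg.Agent.OrderType

section make

variable {X : Type} [AddCommGroup X]

def mkAut (f : X → X) (d : ℕ) [NeZero d] (hadd : ∀ x y, f (x + y) = f x + f y)
    (hd : ∀ x, f^[d] x = x) : MulAut (Multiplicative X) where
  toFun x := Multiplicative.ofAdd (f x.toAdd)
  invFun x := Multiplicative.ofAdd (f^[d - 1] x.toAdd)
  left_inv x := by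
    show Multiplicative.ofAdd (f^[d - 1] (f x.toAdd)) = x
    rw [← Function.iterate_succ_apply, Nat.succ_eq_add_one, Nat.sub_add_cancel (NeZero.pos d), hd]
    rfl
  right_inv x := by
    show Multiplicative.ofAdd (f (f^[d - 1] x.toAdd)) = x
    rw [← Function.iterate_succ_apply' f, Nat.succ_eq_add_one,
      Nat.sub_add_cancel (NeZero.pos d), hd]
    rfl
  map_mul' x y := by simp [hadd]

lemma mkAut_pow (f : X → X) (d : ℕ) [NeZero d] (hadd : ∀ x y, f (x + y) = f x + f y)
    (hd : ∀ x, f^[d] x = x) (k : ℕ) (x : Multiplicative X) :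
    ((mkAut f d hadd hd) ^ k) x = Multiplicative.ofAdd (f^[k] x.toAdd) := by
  induction k with
  | zero => rfl
  | succ k ih =>
    rw [pow_succ', MulAut.mul_apply, ih, Function.iterate_succ_apply']
    rfl

lemma mkAut_hψ (f : X → X) (d : ℕ) [NeZero d] (hadd : ∀ x y, f (x + y) = f x + f y)
    (hd : ∀ x, f^[d] x = x) : (mkAut f d hadd hd) ^ d = 1 := by
  ext x
  rw [mkAut_pow, hd]
  rfl

lemma free_of_fpf (f : X → X) (d : ℕ) [NeZero d] (hadd : ∀ x y, f (x + y) = f x + f y)
    (hd : ∀ x, f^[d] x = x) (hfix : ∀ k : Fin d, k.val ≠ 0 → ∀ x, f^[k.val] x = x → x = 0)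
    (k n : ℕ) (hk : ¬ d ∣ k) (hkn : d ∣ k * n) (a : Multiplicative X) :
    ∏ j ∈ Finset.range n, (((mkAut f d hadd hd) ^ k) ^ j) a = 1 := by
  set u := (mkAut f d hadd hd) ^ k
  have hu : u ^ n = 1 := by
    obtain ⟨t, ht⟩ := hkn
    rw [← pow_mul, ht, pow_mul, mkAut_hψ, one_pow]
  have h := prod_orbit_fixed u n hu a
  set P := ∏ j ∈ Finset.range n, (u ^ j) a
  have h' : (mkAut f d hadd hd ^ (k % d)) P = P := by
    rw [← pow_eq_pow_mod k (mkAut_hψ f d hadd hd)]
    exact h
  rw [mkAut_pow] at h'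
  have := hfix ⟨k % d, Nat.mod_lt _ (NeZero.pos d)⟩
    (fun h0 => hk (Nat.dvd_of_mod_eq_zero h0)) P.toAdd (congrArg Multiplicative.toAdd h')
  exact Multiplicative.toAdd.injective this

variable [Fintype X] [DecidableEq X]

lemma tor_of (q e : ℕ) (hq : ∀ x : X, q • x = 0)
    (htor : ∀ g ∈ Nat.divisors q, (Finset.univ.filter (fun x : X => g • x = 0)).card = g ^ e)
    (hq0 : q ≠ 0) (n : ℕ) :
    Nat.card {a : Multiplicative X // a ^ n = 1} = (Nat.gcd n q) ^ e := by
  have hg : Nat.gcd n q ∈ Nat.divisors q :=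
    Nat.mem_divisors.2 ⟨Nat.gcd_dvd_right _ _, hq0⟩
  rw [← htor _ hg, ← Fintype.card_subtype, ← Nat.card_eq_fintype_card]
  refine Nat.card_congr (Multiplicative.toAdd.subtypeEquiv fun a => ?_)
  have hq' : a ^ q = 1 := Multiplicative.toAdd.injective (by rw [toAdd_pow, hq, toAdd_one])
  rw [← toAdd_pow]
  constructor
  · intro h
    rw [pow_gcd_eq_one.2 ⟨h, hq'⟩, toAdd_one]
  · intro h
    exact (pow_gcd_eq_one.1 (Multiplicative.toAdd.injective (h.trans toAdd_one.symm))).1

def mkMod (X : Type) [AddCommGroup X] [Fintype X] [DecidableEq X] (f : X → X) (d : ℕ) [NeZero d]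
    (q e : ℕ) (hq0 : q ≠ 0) (hadd : ∀ x y, f (x + y) = f x + f y) (hd : ∀ x, f^[d] x = x)
    (hcard : Fintype.card X = q ^ e) (hq : ∀ x : X, q • x = 0)
    (htor : ∀ g ∈ Nat.divisors q, (Finset.univ.filter (fun x : X => g • x = 0)).card = g ^ e)
    (hfree : ∀ k n : ℕ, ¬ d ∣ k → d ∣ k * n → ∀ a : Multiplicative X,
      ∏ j ∈ Finset.range n, (((mkAut f d hadd hd) ^ k) ^ j) a = 1) : Mod where
  A := Multiplicative X
  d := d
  q := q
  e := e
  card := by rw [Nat.card_eq_fintype_card, Fintype.card_multiplicative, hcard]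
  ψ := mkAut f d hadd hd
  hψ := mkAut_hψ f d hadd hd
  tor := tor_of q e hq htor hq0
  free := hfree

end make

abbrev V2 (q : ℕ) : Type := ZMod q × ZMod q

def f3 (x : ZMod 3) : ZMod 3 := -x
def f4 (x : ZMod 4) : ZMod 4 := -x
def f7 (x : ZMod 7) : ZMod 7 := 3 * x
def fF4 (x : V2 2) : V2 2 := (x.2, x.1 + x.2)
def fF8 (x : ZMod 2 × ZMod 2 × ZMod 2) : ZMod 2 × ZMod 2 × ZMod 2 := (x.2.2, x.1 + x.2.2, x.2.1)
def fF9 (x : V2 3) : V2 3 := (-x.2, x.1)
def fF49 (x : V2 7) : V2 7 := (3 * x.2, x.1 + 0 * x.2)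
abbrev V6 : Type := ZMod 2 × ZMod 2 × ZMod 2 × ZMod 2 × ZMod 2 × ZMod 2
def fF64 : V6 → V6
  | (a0, a1, a2, a3, a4, a5) => (a5, a0, a1 + a5, a2, a3 + a5, a4 + a5)

def mz3 : Mod := mkMod (ZMod 3) f3 2 3 1 (by decide) (by decide) (by decide) (by decide)
  (by decide) (by decide) (free_of_fpf f3 2 (by decide) (by decide) (by decide))

lemma free_z4 (k n : ℕ) (hk : ¬ 2 ∣ k) (hkn : 2 ∣ k * n) (a : Multiplicative (ZMod 4)) :
    ∏ j ∈ Finset.range n, (((mkAut f4 2 (by decide) (by decide)) ^ k) ^ j) a = 1 := by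
  set u := mkAut f4 2 (by decide) (by decide) with hu
  have h2 : u ^ 2 = 1 := mkAut_hψ _ _ _ _
  have hk1 : u ^ k = u := by
    rw [pow_eq_pow_mod k h2, show k % 2 = 1 by omega, pow_one]
  obtain ⟨m, rfl⟩ : 2 ∣ n := (Nat.Prime.dvd_mul Nat.prime_two).1 hkn |>.resolve_left hk
  rw [hk1]
  have key : ∀ b : Multiplicative (ZMod 4),
      b * mkAut f4 2 (by decide) (by decide) b = 1 := by decide
  clear hkn
  induction m with
  | zero => simp
  | succ m ih =>
    rw [Nat.mul_succ, Finset.prod_range_succ, Finset.prod_range_succ, ih, one_mul, pow_succ,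
      pow_mul, h2, one_pow, one_mul, MulAut.one_apply]
    exact key a

def mz4 : Mod := mkMod (ZMod 4) f4 2 4 1 (by decide) (by decide) (by decide) (by decide)
  (by decide) (by decide) free_z4

def mz7 : Mod := mkMod (ZMod 7) f7 6 7 1 (by decide) (by decide) (by decide) (by decide)
  (by decide) (by decide) (free_of_fpf f7 6 (by decide) (by decide) (by decide))

def mF4 : Mod := mkMod (V2 2) fF4 3 2 2 (by decide) (by decide) (by decide) (by decide)
  (by decide) (by decide) (free_of_fpf fF4 3 (by decide) (by decide) (by decide))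

def mF8 : Mod := mkMod (ZMod 2 × ZMod 2 × ZMod 2) fF8 7 2 3 (by decide) (by decide) (by decide)
  (by decide) (by decide) (by decide) (free_of_fpf fF8 7 (by decide) (by decide) (by decide))

def mF9 : Mod := mkMod (V2 3) fF9 4 3 2 (by decide) (by decide) (by decide) (by decide)
  (by decide) (by decide) (free_of_fpf fF9 4 (by decide) (by decide) (by decide))

def mF49 : Mod := mkMod (V2 7) fF49 12 7 2 (by decide) (by decide +kernel) (by decide +kernel)
  (by decide) (by decide +kernel) (by decide +kernel)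
  (free_of_fpf fF49 12 (by decide +kernel) (by decide +kernel) (by decide +kernel))

set_option synthInstance.maxSize 4000 in
set_option synthInstance.maxHeartbeats 400000 in
def mF64 : Mod := mkMod V6 fF64 21 2 6 (by decide) (by decide +kernel) (by decide +kernel)
  (by decide +kernel) (by decide +kernel) (by decide +kernel)
  (free_of_fpf fF64 21 (by decide +kernel) (by decide +kernel) (by decide +kernel))

end Cfsg.Agent.OrderType
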